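import Mathlib.Topology.Spectral.Basic
import Mathlib.Topology.Spectral.ConstructibleTopology
import Mathlib.Topology.Connected.Clopen
import Mathlib.Order.Disjointed

/-!
# Separation by opens and clopens in spectral spaces
-/

universe u

open Topology Set

namespace Groth.Agent.SpectralTop

variable {X : Type u} [TopologicalSpace X]

theorem exists_compact_open_between [PrespectralSpace X] {K O : Set X} (hK : IsCompact K)
    (hO : IsOpen O) (h : K ⊆ O) : ∃ U, IsOpen U ∧ IsCompact U ∧ K ⊆ U ∧ U ⊆ O := by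
  choose B hB hxB hBO using fun x : K =>
    PrespectralSpace.isTopologicalBasis.exists_subset_of_mem_open (h x.2) hO
  obtain ⟨t, ht⟩ := hK.elim_finite_subcover B (fun x => (hB x).1)
    (fun x hx => mem_iUnion.mpr ⟨⟨x, hx⟩, hxB ⟨x, hx⟩⟩)
  exact ⟨⋃ i ∈ t, B i, isOpen_biUnion fun i _ => (hB i).1,
    t.isCompact_biUnion fun i _ => (hB i).2, ht, iUnion₂_subset fun i _ => hBO i⟩

theorem exists_disjoint_opens [SpectralSpace X] {A B : Set X} (hA : IsCompact A) (hB : IsCompact B)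
    (h : ∀ x, (closure {x} ∩ A).Nonempty → (closure {x} ∩ B).Nonempty → False) :
    ∃ U V, IsOpen U ∧ IsOpen V ∧ A ⊆ U ∧ B ⊆ V ∧ Disjoint U V := by
  by_contra hne
  let P := {U : Set X × Set X // IsOpen U.1 ∧ IsCompact U.1 ∧ A ⊆ U.1 ∧ IsOpen U.2 ∧ IsCompact U.2 ∧ B ⊆ U.2}
  let F : P → Set (WithConstructibleTopology X) := fun p => WithTopology.ofTopology ⁻¹' (p.1.1 ∩ p.1.2)
  have hcl : ∀ p, IsClosed (F p) := by
    intro p
    have h1 : IsCompact (p.1.1 ∩ p.1.2) :=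
      QuasiSeparatedSpace.inter_isCompact _ _ p.2.1 p.2.2.1 p.2.2.2.2.1 p.2.2.2.2.2.1
    rw [← isOpen_compl_iff, WithConstructibleTopology.isOpen_iff]
    have e : WithTopology.toTopology (constructibleTopology X) ⁻¹' (F p)ᶜ = (p.1.1 ∩ p.1.2)ᶜ := by
      ext y; simp [F]
    rw [e]
    exact IsCompact.isOpen_constructibleTopology_of_isClosed (by rwa [compl_compl])
      (p.2.1.inter p.2.2.2.2.1).isClosed_compl
  have hdir : Directed (· ⊇ ·) F := by
    intro p q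
    refine ⟨⟨(p.1.1 ∩ q.1.1, p.1.2 ∩ q.1.2), p.2.1.inter q.2.1,
      QuasiSeparatedSpace.inter_isCompact _ _ p.2.1 p.2.2.1 q.2.1 q.2.2.1,
      subset_inter p.2.2.2.1 q.2.2.2.1, p.2.2.2.2.1.inter q.2.2.2.2.1,
      QuasiSeparatedSpace.inter_isCompact _ _ p.2.2.2.2.1 p.2.2.2.2.2.1 q.2.2.2.2.1 q.2.2.2.2.2.1,
      subset_inter p.2.2.2.2.2.2 q.2.2.2.2.2.2⟩, ?_, ?_⟩
    · exact preimage_mono (inter_subset_inter inter_subset_left inter_subset_left)
    · exact preimage_mono (inter_subset_inter inter_subset_right inter_subset_right)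
  have hne' : ∀ p, (F p).Nonempty := by
    intro p
    by_contra hp
    refine hne ⟨p.1.1, p.1.2, p.2.1, p.2.2.2.2.1, p.2.2.2.1, p.2.2.2.2.2.2, ?_⟩
    rw [disjoint_iff_inter_eq_empty]
    refine eq_empty_of_forall_notMem fun x hx => hp ⟨WithTopology.toTopology _ x, ?_⟩
    simpa [F] using hx
  obtain ⟨U₀, hU₁, hU₂, hU₃, -⟩ := exists_compact_open_between hA isOpen_univ (subset_univ A)
  obtain ⟨V₀, hV₁, hV₂, hV₃, -⟩ := exists_compact_open_between hB isOpen_univ (subset_univ B)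
  haveI : Nonempty P := ⟨⟨(U₀, V₀), hU₁, hU₂, hU₃, hV₁, hV₂, hV₃⟩⟩
  obtain ⟨x, hx⟩ := IsCompact.nonempty_iInter_of_directed_nonempty_isCompact_isClosed F hdir hne'
    (fun p => (hcl p).isCompact) hcl
  rw [mem_iInter] at hx
  refine h (WithTopology.ofTopology x) ?_ ?_
  · by_contra hA'
    obtain ⟨U, h1, h2, h3, h4⟩ := exists_compact_open_between hA
      (isClosed_closure (s := {WithTopology.ofTopology x})).isOpen_compl
      (fun a ha hax => hA' ⟨a, hax, ha⟩)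
    exact h4 (hx ⟨(U, V₀), h1, h2, h3, hV₁, hV₂, hV₃⟩).1 (subset_closure rfl)
  · by_contra hB'
    obtain ⟨V, h1, h2, h3, h4⟩ := exists_compact_open_between hB
      (isClosed_closure (s := {WithTopology.ofTopology x})).isOpen_compl
      (fun a ha hax => hB' ⟨a, hax, ha⟩)
    exact h4 (hx ⟨(U₀, V), hU₁, hU₂, hU₃, h1, h2, h3⟩).2 (subset_closure rfl)

theorem mem_of_closure_inter {x : X} {U : Set X} (hU : IsOpen U) (h : (closure {x} ∩ U).Nonempty) :
    x ∈ U := by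
  obtain ⟨w, hw, hwU⟩ := h
  obtain ⟨y, hyU, hy⟩ := mem_closure_iff.mp hw U hU hwU
  rwa [mem_singleton_iff.mp hy] at hyU

theorem lift_decomposition [SpectralSpace X] (Z : Set X) (hZ : IsClosed Z)
    (hconn : ∀ x : X, IsConnected (Z ∩ closure {x}))
    (Z₁ Z₂ : Set X) (h₁ : IsClosed Z₁) (h₂ : IsClosed Z₂) (hdisj : Disjoint Z₁ Z₂) (hunion : Z₁ ∪ Z₂ = Z) :
    ∃ X₁ X₂ : Set X, IsClosed X₁ ∧ IsClosed X₂ ∧ Disjoint X₁ X₂ ∧ X₁ ∪ X₂ = Set.univ ∧
      Z₁ = Z ∩ X₁ ∧ Z₂ = Z ∩ X₂ := by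
  obtain ⟨U, V, hU, hV, hAU, hBV, hUV⟩ := exists_disjoint_opens h₁.isCompact h₂.isCompact
    (fun x ⟨a, ha, ha1⟩ ⟨b, hb, hb2⟩ => by
      obtain ⟨c, -, hc1, hc2⟩ := isPreconnected_closed_iff.mp (hconn x).isPreconnected Z₁ Z₂ h₁ h₂
        (inter_subset_left.trans hunion.ge) ⟨a, ⟨hunion ▸ Or.inl ha1, ha⟩, ha1⟩
        ⟨b, ⟨hunion ▸ Or.inr hb2, hb⟩, hb2⟩
      exact disjoint_left.mp hdisj hc1 hc2)
  have hcov : U ∪ V = univ := by
    refine eq_univ_of_forall fun x => ?_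
    obtain ⟨w, hwZ, hw⟩ := (hconn x).nonempty
    rcases (hunion.ge hwZ : w ∈ Z₁ ∪ Z₂) with h | h
    · exact Or.inl (mem_of_closure_inter hU ⟨w, hw, hAU h⟩)
    · exact Or.inr (mem_of_closure_inter hV ⟨w, hw, hBV h⟩)
  have hUc : U = Vᶜ := (isCompl_iff.mpr ⟨hUV, codisjoint_iff.mpr hcov⟩).eq_compl
  have hVc : V = Uᶜ := (isCompl_iff.mpr ⟨hUV, codisjoint_iff.mpr hcov⟩).symm.eq_compl
  refine ⟨U, V, hUc ▸ hV.isClosed_compl, hVc ▸ hU.isClosed_compl, hUV, hcov, ?_, ?_⟩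
  · refine subset_antisymm (fun z hz => ⟨hunion ▸ Or.inl hz, hAU hz⟩) ?_
    rintro z ⟨hzZ, hzU⟩
    rcases (hunion.ge hzZ : z ∈ Z₁ ∪ Z₂) with h | h
    · exact h
    · exact absurd (hBV h) (disjoint_left.mp hUV hzU)
  · refine subset_antisymm (fun z hz => ⟨hunion ▸ Or.inr hz, hBV hz⟩) ?_
    rintro z ⟨hzZ, hzV⟩
    rcases (hunion.ge hzZ : z ∈ Z₁ ∪ Z₂) with h | h
    · exact absurd hzV (disjoint_left.mp hUV (hAU h))
    · exact h

theorem exists_isClopen_of_connectedComponent_subset [SpectralSpace X] (x : X) {W : Set X}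
    (hW : IsOpen W) (h : connectedComponent x ⊆ W) : ∃ Z, IsClopen Z ∧ x ∈ Z ∧ Z ⊆ W := by
  let C := {Z : Set X // IsClopen Z ∧ x ∈ Z}
  haveI : Nonempty C := ⟨⟨univ, isClopen_univ, mem_univ x⟩⟩
  have hsub : ∀ {W : Set X}, IsOpen W → (⋂ Z : C, Z.1) ⊆ W → ∃ Z : C, Z.1 ⊆ W := by
    intro W hW hsub
    obtain ⟨Z, hZ⟩ := hW.isClosed_compl.isCompact.elim_directed_family_closed (fun Z : C => Z.1)
      (fun Z => Z.2.1.isClosed) (by
        rw [← disjoint_iff_inter_eq_empty, disjoint_compl_left_iff_subset]; exact hsub)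
      (fun Z Z' => ⟨⟨Z.1 ∩ Z'.1, Z.2.1.inter Z'.2.1, Z.2.2, Z'.2.2⟩, inter_subset_left, inter_subset_right⟩)
    exact ⟨Z, by rwa [← disjoint_iff_inter_eq_empty, disjoint_compl_left_iff_subset] at hZ⟩
  have hQ : IsPreconnected (⋂ Z : C, Z.1) := by
    rw [isPreconnected_closed_iff]
    intro s t hs ht hst hqs hqt
    by_contra hne
    let A := (⋂ Z : C, Z.1) ∩ s
    let B := (⋂ Z : C, Z.1) ∩ t
    have hQc : IsClosed (⋂ Z : C, Z.1) := isClosed_iInter fun Z => Z.2.1.isClosed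
    obtain ⟨U, V, hU, hV, hAU, hBV, hUV⟩ := exists_disjoint_opens (hQc.inter hs).isCompact
      (hQc.inter ht).isCompact (A := A) (B := B) (fun y ⟨a, ha, haA⟩ ⟨b, hb, hbB⟩ => by
        have hy : y ∈ ⋂ Z : C, Z.1 := mem_iInter.mpr fun Z =>
          mem_of_closure_inter Z.2.1.isOpen ⟨a, ha, mem_iInter.mp haA.1 Z⟩
        have hcl : closure {y} ⊆ ⋂ Z : C, Z.1 := hQc.closure_subset_iff.mpr (singleton_subset_iff.mpr hy)
        rcases hst hy with hys | hyt
        · exact hne ⟨b, hcl hb, hs.closure_subset_iff.mpr (singleton_subset_iff.mpr hys) hb, hbB.2⟩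
        · exact hne ⟨a, hcl ha, haA.2, ht.closure_subset_iff.mpr (singleton_subset_iff.mpr hyt) ha⟩)
    obtain ⟨Z, hZ⟩ := hsub (hU.union hV) (fun y hy => by
      rcases hst hy with h | h
      · exact Or.inl (hAU ⟨hy, h⟩)
      · exact Or.inr (hBV ⟨hy, h⟩))
    have hZU : IsClopen (Z.1 ∩ U) := by
      refine ⟨?_, Z.2.1.isOpen.inter hU⟩
      have e : Z.1 ∩ U = Z.1 ∩ Vᶜ := by
        ext y
        exact ⟨fun hy => ⟨hy.1, disjoint_left.mp hUV hy.2⟩,
          fun hy => ⟨hy.1, (hZ hy.1).resolve_right hy.2⟩⟩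
      rw [e]
      exact Z.2.1.isClosed.inter hV.isClosed_compl
    by_cases hxU : x ∈ U
    · obtain ⟨q, hq, hqt'⟩ := hqt
      have := mem_iInter.mp hq ⟨_, hZU, Z.2.2, hxU⟩
      exact disjoint_left.mp hUV this.2 (hBV ⟨hq, hqt'⟩)
    · obtain ⟨q, hq, hqs'⟩ := hqs
      have hZV : IsClopen (Z.1 \ (Z.1 ∩ U)) := Z.2.1.diff hZU
      have := mem_iInter.mp hq ⟨_, hZV, Z.2.2, fun h' => hxU h'.2⟩
      exact this.2 ⟨this.1, hAU ⟨hq, hqs'⟩⟩
  obtain ⟨Z, hZ⟩ := hsub hW ((hQ.subset_connectedComponent (mem_iInter.mpr fun Z => Z.2.2)).trans h)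
  exact ⟨Z.1, Z.2.1, Z.2.2, hZ⟩

theorem exists_closed_point [SpectralSpace X] {S : Set X} (hS : IsClosed S) (hne : S.Nonempty) :
    ∃ z ∈ S, IsClosed ({z} : Set X) :=
  hS.exists_closed_singleton hne

theorem refinement_iff [SpectralSpace X] :
    (∀ (ι : Type u) (U : ι → Set X), (∀ i, IsOpen (U i)) → (⋃ i, U i) = Set.univ →
      ∃ (n : ℕ) (V : Fin n → Set X), (∀ k, IsClopen (V k)) ∧
        Pairwise (fun k l => Disjoint (V k) (V l)) ∧ (⋃ k, V k) = Set.univ ∧ ∀ k, ∃ i, V k ⊆ U i) ↔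
    Function.Bijective (fun x : {x : X // IsClosed ({x} : Set X)} => _root_.ConnectedComponents.mk x.1) := by
  classical
  constructor
  · intro h
    constructor
    · intro z z' hzz
      by_contra hne
      have hne' : z.1 ≠ z'.1 := fun e => hne (Subtype.ext e)
      obtain ⟨n, V, hV, -, hcov, hsub⟩ := h (ULift.{u} Bool)
        (fun b => if b.down then {z.1}ᶜ else {z'.1}ᶜ)
        (fun b => by cases b.down <;> simp [z.2.isOpen_compl, z'.2.isOpen_compl])
        (eq_univ_of_forall fun y => mem_iUnion.mpr (by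
          by_cases hy : y = z.1
          · exact ⟨⟨false⟩, by simp [hy, hne']⟩
          · exact ⟨⟨true⟩, by simp [hy]⟩))
      obtain ⟨k, hk⟩ := mem_iUnion.mp (hcov.ge (mem_univ z.1))
      have hz' : z'.1 ∈ V k := (hV k).connectedComponent_subset hk
        (ConnectedComponents.coe_eq_coe'.mp hzz.symm)
      obtain ⟨⟨b⟩, hb⟩ := hsub k
      cases b
      · exact hb hz' (by simp)
      · exact hb hk (by simp)
    · intro c
      obtain ⟨x, rfl⟩ := ConnectedComponents.surjective_coe c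
      obtain ⟨z, hz, hzc⟩ := exists_closed_point (isClosed_connectedComponent (x := x)) ⟨x, mem_connectedComponent⟩
      exact ⟨⟨z, hzc⟩, ConnectedComponents.coe_eq_coe'.mpr hz⟩
  · intro h ι U hU hcov
    have key : ∀ x : X, ∃ Z, IsClopen Z ∧ x ∈ Z ∧ ∃ i, Z ⊆ U i := by
      intro x
      obtain ⟨⟨z, hz⟩, hzx⟩ := h.2 (ConnectedComponents.mk x)
      obtain ⟨i, hi⟩ := mem_iUnion.mp (hcov.ge (mem_univ z))
      have hsub : connectedComponent x ⊆ U i := by
        intro y hy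
        obtain ⟨w, hw, hwc⟩ := exists_closed_point (isClosed_closure (s := {y})) ⟨y, subset_closure rfl⟩
        have hwx : w ∈ connectedComponent x :=
          (isClosed_connectedComponent.closure_subset_iff.mpr (singleton_subset_iff.mpr hy)) hw
        have e : (⟨w, hwc⟩ : {x : X // IsClosed ({x} : Set X)}) = ⟨z, hz⟩ :=
          h.1 ((ConnectedComponents.coe_eq_coe'.mpr hwx).trans hzx.symm)
        have hwz : w = z := congrArg Subtype.val e
        exact mem_of_closure_inter (hU i) ⟨w, hw, hwz ▸ hi⟩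
      obtain ⟨Z, hZ, hxZ, hZU⟩ := exists_isClopen_of_connectedComponent_subset x (hU i) hsub
      exact ⟨Z, hZ, hxZ, i, hZU⟩
    choose Z hZ hxZ i hi using key
    obtain ⟨t, ht⟩ := isCompact_univ.elim_finite_subcover Z (fun x => (hZ x).isOpen)
      (fun x _ => mem_iUnion.mpr ⟨x, hxZ x⟩)
    let e : Fin t.card ≃ t := t.equivFin.symm
    refine ⟨t.card, disjointed fun k => Z (e k).1, fun k => disjointedRec (fun a b ha => ha.diff (hZ _)) (hZ _),
      disjoint_disjointed _, ?_, fun k => ⟨i (e k).1, (disjointed_subset _ k).trans (hi _)⟩⟩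
    rw [iUnion_disjointed]
    refine eq_univ_of_forall fun y => ?_
    obtain ⟨a, ha, hya⟩ := mem_iUnion₂.mp (ht (mem_univ y))
    exact mem_iUnion.mpr ⟨e.symm ⟨a, ha⟩, by simpa using hya⟩

theorem bijective_of_unique_specialization [SpectralSpace X]
    (h0 : IsClosed {x : X | IsClosed ({x} : Set X)})
    (huniq : ∀ x : X, ∃! z : X, IsClosed ({z} : Set X) ∧ x ⤳ z) :
    Function.Bijective (fun x : {x : X // IsClosed ({x} : Set X)} => _root_.ConnectedComponents.mk x.1) := by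
  constructor
  · intro z z' hzz
    by_contra hne
    have hne' : z.1 ≠ z'.1 := fun e => hne (Subtype.ext e)
    obtain ⟨U₀, hU₀, hU₀c, hzU, hU₀z⟩ := exists_compact_open_between (isCompact_singleton (x := z.1))
      z'.2.isOpen_compl (by simpa using Ne.symm hne')
    obtain ⟨U, V, hU, hV, hKU, hBV, hUV⟩ := exists_disjoint_opens (hU₀c.inter_right h0)
      (h0.inter hU₀.isClosed_compl).isCompact (fun y ⟨a, ha, ha'⟩ ⟨b, hb, hb'⟩ => by
        have := (huniq y).unique ⟨ha'.2, specializes_iff_mem_closure.mpr ha⟩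
          ⟨hb'.1, specializes_iff_mem_closure.mpr hb⟩
        exact hb'.2 (this ▸ ha'.1))
    have hcov : U ∪ V = univ := by
      refine eq_univ_of_forall fun y => ?_
      obtain ⟨w, ⟨hw, hyw⟩, -⟩ := huniq y
      by_cases hwU : w ∈ U₀
      · exact Or.inl (hU.stableUnderGeneralization hyw (hKU ⟨hwU, hw⟩))
      · exact Or.inr (hV.stableUnderGeneralization hyw (hBV ⟨hw, hwU⟩))
    have hUclopen : IsClopen U :=
      ⟨(isCompl_iff.mpr ⟨hUV, codisjoint_iff.mpr hcov⟩).eq_compl ▸ hV.isClosed_compl, hU⟩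
    have hz'U : z'.1 ∈ U := hUclopen.connectedComponent_subset (hKU ⟨hzU rfl, z.2⟩)
      (ConnectedComponents.coe_eq_coe'.mp hzz.symm)
    exact disjoint_left.mp hUV hz'U (hBV ⟨z'.2, fun h => hU₀z h rfl⟩)
  · intro c
    obtain ⟨x, rfl⟩ := ConnectedComponents.surjective_coe c
    obtain ⟨z, hz, hzc⟩ := exists_closed_point (isClosed_connectedComponent (x := x)) ⟨x, mem_connectedComponent⟩
    exact ⟨⟨z, hzc⟩, ConnectedComponents.coe_eq_coe'.mpr hz⟩

end Groth.Agent.SpectralTop
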